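import Cfsg.Agent.H533.Wf.Inner
import Cfsg.Agent.H582.Ly.Three
import Cfsg.Agent.TypeM.OutLyFin

/-!
# S3826, the row `Ly`, `p = 3` (helper559)

Groups with one class of involutions and involution centralizer `2.A_n` in which every element of order `p` commutes with an
involution: both classes meet the quasisimple proper subgroup `C(t)`.
-/

set_option autoImplicit false

namespace Cfsg.Agent.H559.Wf

open Subgroup Cfsg Cfsg.Agent.H533.Wf Cfsg.Agent.TypeM.Two

universe u

/-- one class of involutions, `C(t) = 2.A_n`, elements of order `p` commuting with involutions -/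
theorem irow_of_mt {n : ℕ} (hn : 5 ≤ n) {p : ℕ} (hp : p.Prime) (hp2 : p ≠ 2) {K : Type u} [Group K] [Finite K]
    [hK : IsSimpleGroup K] (L : MT n K)
    (hinv : ∀ y : K, orderOf y = p → ∃ s : K, orderOf s = 2 ∧ s * y = y * s) : IRow p K := by
  have hpf : Fact p.Prime := ⟨hp⟩
  intro C D h
  -- the subgroup
  set H : Subgroup K := centralizer ({L.t} : Set K) with hHdef
  have htt := L.t_mul_t
  have ht1 := L.t_ne
  have hH : H ≠ ⊤ := by
    intro hH
    have h1 : L.t ∈ center K := by
      rw [mem_center_iff]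
      intro g
      have h2 : g ∈ H := by rw [hH]; exact mem_top g
      exact mem_centralizer_singleton_iff.1 h2
    rcases (inferInstance : (center K).Normal).eq_bot_or_eq_top with h2 | h2
    · rw [h2, mem_bot] at h1
      exact ht1 h1
    · apply h.nc
      refine ⟨⟨fun a b => Subtype.ext ?_⟩⟩
      have h3 : (b : K) ∈ center K := by rw [h2]; exact mem_top _
      exact mem_center_iff.1 h3 a
  -- conjugates in `H`
  have key : ∀ y : K, orderOf y = p → ∃ g : K, g * y * g⁻¹ ∈ H := by
    intro y hy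
    obtain ⟨s, hs, hsy⟩ := hinv y hy
    obtain ⟨g, hg⟩ := L.one s (by rw [← pow_two, ← hs, pow_orderOf_eq_one])
      (by rintro rfl; rw [orderOf_one] at hs; norm_num at hs)
    refine ⟨g⁻¹, mem_centralizer_singleton_iff.2 ?_⟩
    rw [← hg] at hsy
    calc g⁻¹ * y * g⁻¹⁻¹ * L.t = g⁻¹ * (y * (g * L.t * g⁻¹)) * g := by group
      _ = g⁻¹ * (g * L.t * g⁻¹ * y) * g := by rw [hsy]
      _ = L.t * (g⁻¹ * y * g⁻¹⁻¹) := by group
  -- the quotient
  set N : Subgroup H := L.K.π.ker with hN
  have e1 : (H ⧸ N) ≃* L.K.π.range := QuotientGroup.quotientKerEquivRange L.K.π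
  have e2 : L.K.π.range ≃* alternatingGroup (Fin n) := MulEquiv.subgroupCongr L.K.range_eq
  have e : (H ⧸ N) ≃* alternatingGroup (Fin n) := e1.trans e2
  have hsA : IsSimpleGroup (alternatingGroup (Fin n)) := alternatingGroup.isSimpleGroup (by simpa using hn)
  have hsY : IsSimpleGroup (H ⧸ N) := e.isSimpleGroup
  have hncA : ¬ ∀ a b : alternatingGroup (Fin n), a * b = b * a := by
    intro hcom
    have h3 : Nat.card (alternatingGroup (Fin n)) = n.factorial / 2 := by
      have : Nontrivial (Fin n) := Fin.nontrivial_iff_two_le.2 (by omega)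
      rw [nat_card_alternatingGroup, Nat.card_eq_fintype_card, Fintype.card_fin]
    -- two 3-cycles
    let a : Fin n := ⟨0, by omega⟩
    let b : Fin n := ⟨1, by omega⟩
    let c : Fin n := ⟨2, by omega⟩
    let d : Fin n := ⟨3, by omega⟩
    have hab : a ≠ b := by simp [a, b]
    have hac : a ≠ c := by simp [a, c]
    have hbc : b ≠ c := by simp [b, c]
    have had : a ≠ d := by simp [a, d]
    have hbd : b ≠ d := by simp [b, d]
    have hcd : c ≠ d := by simp [c, d]
    have m1 : Equiv.swap a b * Equiv.swap b c ∈ alternatingGroup (Fin n) := by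
      rw [Equiv.Perm.mem_alternatingGroup, map_mul, Equiv.Perm.sign_swap hab, Equiv.Perm.sign_swap hbc]
      rfl
    have m2 : Equiv.swap a b * Equiv.swap b d ∈ alternatingGroup (Fin n) := by
      rw [Equiv.Perm.mem_alternatingGroup, map_mul, Equiv.Perm.sign_swap hab, Equiv.Perm.sign_swap hbd]
      rfl
    have h4 := congrArg Subtype.val (hcom ⟨_, m1⟩ ⟨_, m2⟩)
    have h5 := DFunLike.congr_fun h4 a
    change (Equiv.swap a b) ((Equiv.swap b c) ((Equiv.swap a b) ((Equiv.swap b d) a))) =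
      (Equiv.swap a b) ((Equiv.swap b d) ((Equiv.swap a b) ((Equiv.swap b c) a))) at h5
    rw [Equiv.swap_apply_of_ne_of_ne hab had, Equiv.swap_apply_left, Equiv.swap_apply_left,
      Equiv.swap_apply_of_ne_of_ne hab hac, Equiv.swap_apply_left, Equiv.swap_apply_left,
      Equiv.swap_apply_of_ne_of_ne hac.symm hbc.symm, Equiv.swap_apply_of_ne_of_ne had.symm hbd.symm] at h5
    exact hcd h5
  have hncY : ¬ IsMulCommutative (⊤ : Subgroup (H ⧸ N)) := by
    intro hc
    apply hncA
    intro a b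
    have h3 := congrArg Subtype.val (hc.is_comm.comm (⟨e.symm a, mem_top _⟩ : (⊤ : Subgroup (H ⧸ N))) ⟨e.symm b, mem_top _⟩)
    have h4 : e.symm a * e.symm b = e.symm b * e.symm a := h3
    rw [← map_mul, ← map_mul] at h4
    exact e.symm.injective h4
  have hsT : IsSimpleGroup (⊤ : Subgroup (H ⧸ N)) := (Subgroup.topEquiv : (⊤ : Subgroup (H ⧸ N)) ≃* _).isSimpleGroup
  have hcen : ∀ y : H, orderOf (y : K) = p → QuotientGroup.mk' N y ∉ centralizer ((⊤ : Subgroup (H ⧸ N)) : Set (H ⧸ N)) := by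
    intro y hy hcy
    have h1 : QuotientGroup.mk' N y ∈ center (H ⧸ N) := by
      rw [mem_center_iff]
      intro g
      exact mem_centralizer_iff.1 hcy g (by simp)
    rcases (inferInstance : (center (H ⧸ N)).Normal).eq_bot_or_eq_top with h2 | h2
    · rw [h2, mem_bot] at h1
      have h3 : y ∈ N := (QuotientGroup.eq_one_iff y).1 h1
      rw [hN, MonoidHom.mem_ker, L.K.ker] at h3
      have h4 : (y : K) ^ 2 = 1 := by
        rcases h3 with h3 | h3
        · rw [h3]; simp
        · rw [h3, ← Subgroup.coe_pow, L.K.z_pow_two, Subgroup.coe_one]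
      have h5 : p ∣ 2 := by rw [← hy]; exact orderOf_dvd_of_pow_eq_one h4
      exact hp2 ((Nat.prime_dvd_prime_iff_eq hp Nat.prime_two).1 h5)
    · apply hncY
      refine ⟨⟨fun a b => Subtype.ext ?_⟩⟩
      have h3 : (b : H ⧸ N) ∈ center (H ⧸ N) := by rw [h2]; exact mem_top _
      exact mem_center_iff.1 h3 a
  obtain ⟨c, hc⟩ := h.neC
  obtain ⟨d, hd⟩ := h.neD
  obtain ⟨g, hg⟩ := key c (h.ordC c hc)
  obtain ⟨k, hk⟩ := key d (h.ordD d hd)
  exact h.false_of_hom hH (QuotientGroup.mk' N) (QuotientGroup.mk'_surjective N) (L := ⊤) inferInstance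
    (QS.of_simple hsT hncY) (h.conjC g c hc) (h.conjD k d hd) hg hk
    (hcen ⟨_, hg⟩ (h.ordC _ (h.conjC g c hc))) (hcen ⟨_, hk⟩ (h.ordD _ (h.conjD k d hd)))

/-- **The row `Ly`**: the field `ly` of `SporThree`. -/
theorem arow_ly (K : Type u) [Group K] [Finite K] [IsSimpleGroup K] (h : Spor.IsoLy K) : ARow 3 K := by
  obtain ⟨-, -, hcard, ⟨L⟩⟩ := Cfsg.Agent.TypeM.FactsLy.facts h
  obtain ⟨x₀, h₀⟩ := Cfsg.Agent.H582.Ly.exists_tdata h
  exact ARow.of_inner (fun a _ => Cfsg.Agent.TypeM.OutLyFin.inner h a)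
    (irow_of_mt (by norm_num) Nat.prime_three (by norm_num) L
      (fun y hy => Cfsg.Agent.H582.Ly.fact_a hcard h₀ hy))

end Cfsg.Agent.H559.Wf
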